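import Mathlib

/-!
Tensoring a reduced Artinian algebra with a separable field extension, and the closed fibre of a
base change.
-/

set_option autoImplicit false
set_option maxHeartbeats 800000

universe u

open TensorProduct IsLocalRing

namespace Groth.Agent.DeltaBC

theorem isReduced_tensor_sep (k K M : Type u) [Field k] [Field K] [Algebra k K] [Algebra.IsSeparable k K]
    [CommRing M] [Algebra k M] [IsArtinianRing M] [IsReduced M] : IsReduced (M ⊗[k] K) := by
  classical
  refine IsReduced.tensorProduct_of_flat_of_forall_fg fun D hD => ?_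
  have : Algebra.IsIntegral k D := ⟨fun d => (isIntegral_algHom_iff D.val Subtype.val_injective).mp
    (Algebra.IsIntegral.isIntegral (R := k) d.1)⟩
  have : Algebra.FiniteType k D := Subalgebra.fg_iff_finiteType _ |>.mp hD
  have : Module.Finite k D := Algebra.IsIntegral.finite
  let : Field D := (isField_of_isIntegral_of_isField' (Field.toIsField k) (S := D)).toField
  let instD : Algebra k D := D.algebra
  have : Algebra.IsSeparable k D := Algebra.IsSeparable.of_algHom k K D.val
  have hfet : Algebra.FormallyEtale k D := Algebra.FormallyEtale.of_isSeparable k D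
  have : Algebra.FormallyUnramified k D := Algebra.FormallyUnramified.of_isSeparable k D
  let b := Module.Free.chooseBasis k D
  refine ⟨fun z hz => ?_⟩
  apply (Algebra.TensorProduct.basis M b).repr.injective
  rw [map_zero]
  ext i
  rw [Finsupp.zero_apply, ← Ideal.mem_bot, show (⊥ : Ideal M) = nilradical M from
    (nilradical_eq_bot_iff.mpr inferInstance).symm, nilradical_eq_sInf, Submodule.mem_sInf]
  intro (m : Ideal M) (hm : m.IsPrime)
  have : m.IsMaximal := inferInstance
  let := Ideal.Quotient.field m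
  have : Module.Finite (M ⧸ m) ((M ⧸ m) ⊗[k] D) := inferInstance
  have : IsReduced ((M ⧸ m) ⊗[k] D) := Algebra.FormallyUnramified.isReduced_of_field (M ⧸ m) _
  let φ : M ⊗[k] D →ₐ[k] (M ⧸ m) ⊗[k] D := Algebra.TensorProduct.map (Ideal.Quotient.mkₐ k m) (AlgHom.id k D)
  have key : ∀ y, (Algebra.TensorProduct.basis (M ⧸ m) b).repr (φ y) i =
      Ideal.Quotient.mk m ((Algebra.TensorProduct.basis M b).repr y i) := by
    intro y
    induction y using TensorProduct.induction_on with
    | zero => simp
    | tmul a d =>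
      simp [φ, Algebra.TensorProduct.basis_repr_tmul, Finsupp.smul_apply, Algebra.smul_def]
    | add y y' hy hy' => simp [hy, hy']
  have h := key z
  rw [(hz.map φ).eq_zero, map_zero, Finsupp.zero_apply] at h
  exact Ideal.Quotient.eq_zero_iff_mem.mp h.symm

variable {A B C : Type u} [CommRing A] [IsLocalRing A] [CommRing B] [IsLocalRing B] [Algebra A B]
  [IsLocalHom (algebraMap A B)] [CommRing C] [Algebra A C]

/-- The kernel of `B ⊗ C → κ_B ⊗ (C ⧸ J)` for `J ⊇ 𝔪 C` and `𝔪 B = 𝔪_B`. -/
theorem isReduced_quot_baseChange (hm : (maximalIdeal A).map (algebraMap A B) = maximalIdeal B)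
    [Algebra.IsSeparable (ResidueField A) (ResidueField B)]
    (J : Ideal C) [Module.Finite A C] [IsReduced (C ⧸ J)]
    (hJ : (maximalIdeal A).map (algebraMap A C) ≤ J) :
    (J.map (Algebra.TensorProduct.includeRight : C →ₐ[A] B ⊗[A] C)).IsRadical := by
  classical
  let inr : C →ₐ[A] B ⊗[A] C := Algebra.TensorProduct.includeRight
  set I := J.map inr
  let : Algebra (ResidueField A) (C ⧸ J) :=
    (Ideal.Quotient.lift (maximalIdeal A) ((Ideal.Quotient.mk J).comp (algebraMap A C))
      fun a ha => Ideal.Quotient.eq_zero_iff_mem.mpr (hJ (Ideal.mem_map_of_mem _ ha))).toAlgebra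
  have : IsScalarTower A (ResidueField A) (C ⧸ J) := IsScalarTower.of_algebraMap_eq fun a => rfl
  have : Module.Finite A (C ⧸ J) :=
    Module.Finite.of_surjective (Ideal.Quotient.mkₐ A J).toLinearMap Ideal.Quotient.mk_surjective
  have : Module.Finite (ResidueField A) (C ⧸ J) := Module.Finite.of_restrictScalars_finite A _ _
  have : IsArtinianRing (C ⧸ J) := IsArtinianRing.of_finite (ResidueField A) _
  have hred : IsReduced ((C ⧸ J) ⊗[ResidueField A] ResidueField B) :=
    isReduced_tensor_sep (ResidueField A) (ResidueField B) (C ⧸ J)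
  -- the target `(B ⊗ C) ⧸ I` as an algebra over the residue field
  let qA : A →+* (B ⊗[A] C) ⧸ I := (Ideal.Quotient.mk I).comp (algebraMap A (B ⊗[A] C))
  have hA : ∀ a ∈ maximalIdeal A, qA a = 0 := fun a ha => Ideal.Quotient.eq_zero_iff_mem.mpr
    ((inr.commutes a) ▸ Ideal.mem_map_of_mem inr (hJ (Ideal.mem_map_of_mem _ ha)))
  let : Algebra (ResidueField A) ((B ⊗[A] C) ⧸ I) := (Ideal.Quotient.lift (maximalIdeal A) qA hA).toAlgebra
  let qB : B →+* (B ⊗[A] C) ⧸ I :=
    (Ideal.Quotient.mk I).comp (Algebra.TensorProduct.includeLeft : B →ₐ[A] B ⊗[A] C).toRingHom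
  have hB : ∀ b ∈ maximalIdeal B, qB b = 0 := fun b hb => by
    rw [← hm] at hb
    refine (Ideal.map_le_iff_le_comap.mpr fun a ha => ?_ : Ideal.map (algebraMap A B) (maximalIdeal A) ≤ RingHom.ker qB) hb
    show qB (algebraMap A B a) = 0
    rw [← hA a ha]
    exact congrArg (Ideal.Quotient.mk I) (Algebra.TensorProduct.includeLeft (R := A) (S := A) (A := B) (B := C) |>.commutes a)
  let fB : ResidueField B →ₐ[ResidueField A] (B ⊗[A] C) ⧸ I :=
    { toRingHom := Ideal.Quotient.lift (maximalIdeal B) qB hB
      commutes' := fun r => by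
        obtain ⟨a, rfl⟩ := IsLocalRing.residue_surjective r
        exact congrArg (Ideal.Quotient.mk I)
          ((Algebra.TensorProduct.includeLeft (R := A) (S := A) (A := B) (B := C)).commutes a) }
  let fC : C ⧸ J →ₐ[ResidueField A] (B ⊗[A] C) ⧸ I :=
    { toRingHom := Ideal.Quotient.lift J ((Ideal.Quotient.mk I).comp inr.toRingHom)
        fun x hx => Ideal.Quotient.eq_zero_iff_mem.mpr (Ideal.mem_map_of_mem inr hx)
      commutes' := fun r => by
        obtain ⟨a, rfl⟩ := IsLocalRing.residue_surjective r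
        exact congrArg (Ideal.Quotient.mk I) (inr.commutes a) }
  let ρ : (C ⧸ J) ⊗[ResidueField A] ResidueField B →ₐ[ResidueField A] (B ⊗[A] C) ⧸ I :=
    Algebra.TensorProduct.lift fC fB fun _ _ => Commute.all _ _
  let gB : B →ₐ[A] (C ⧸ J) ⊗[ResidueField A] ResidueField B :=
    { toRingHom := (Algebra.TensorProduct.includeRight : ResidueField B →ₐ[ResidueField A] _).toRingHom.comp
        (IsLocalRing.residue B)
      commutes' := fun a => by
        show Algebra.TensorProduct.includeRight (R := ResidueField A) (A := C ⧸ J)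
          (algebraMap (ResidueField A) (ResidueField B) (residue A a)) = _
        rw [AlgHom.commutes]
        exact (IsScalarTower.algebraMap_apply A (ResidueField A) _ a).symm }
  let gC : C →ₐ[A] (C ⧸ J) ⊗[ResidueField A] ResidueField B :=
    ((Algebra.TensorProduct.includeLeft : C ⧸ J →ₐ[ResidueField A] _).restrictScalars A).comp
      (Ideal.Quotient.mkₐ A J)
  let ψ : B ⊗[A] C →ₐ[A] (C ⧸ J) ⊗[ResidueField A] ResidueField B :=
    Algebra.TensorProduct.lift gB gC fun _ _ => Commute.all _ _
  have key : ∀ z, ρ (ψ z) = Ideal.Quotient.mk I z := by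
    intro z
    induction z using TensorProduct.induction_on with
    | zero => simp
    | tmul b c =>
      have h1 : ψ (b ⊗ₜ[A] c) = (Ideal.Quotient.mk J c) ⊗ₜ[ResidueField A] (residue B b) := by
        rw [show ψ (b ⊗ₜ[A] c) = gB b * gC c from Algebra.TensorProduct.lift_tmul _ _ _ b c]
        show ((1 : C ⧸ J) ⊗ₜ[ResidueField A] residue B b) *
          (Ideal.Quotient.mk J c ⊗ₜ[ResidueField A] (1 : ResidueField B)) = _
        rw [Algebra.TensorProduct.tmul_mul_tmul, one_mul, mul_one]
      rw [h1, Algebra.TensorProduct.lift_tmul]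
      show Ideal.Quotient.mk I (inr c) * Ideal.Quotient.mk I (b ⊗ₜ[A] (1 : C)) = _
      rw [← map_mul]
      simp [inr]
    | add y y' hy hy' => simp [hy, hy']
  intro z ⟨n, hn⟩
  rw [← Ideal.Quotient.eq_zero_iff_mem]
  have hnil : ψ z ^ n = 0 := by
    rw [← map_pow]
    have hker : I ≤ RingHom.ker ψ := Ideal.map_le_iff_le_comap.mpr fun x hx => by
      show ψ (1 ⊗ₜ[A] x) = 0
      rw [show ψ (1 ⊗ₜ[A] x) = gB 1 * gC x from Algebra.TensorProduct.lift_tmul _ _ _ 1 x,
        show gC x = (Ideal.Quotient.mk J x) ⊗ₜ[ResidueField A] (1 : ResidueField B) from rfl,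
        Ideal.Quotient.eq_zero_iff_mem.mpr hx, TensorProduct.zero_tmul, mul_zero]
    exact hker hn
  rw [← key, IsReduced.eq_zero (ψ z) ⟨n, hnil⟩, map_zero]

end Groth.Agent.DeltaBC
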