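import Groth.Agent.DeltaBC.Main
import Mathlib

/-!
Invariance of the δ-invariant under flat local extensions with radical extended Jacobson radical of the
normalisation, and the radical criterion for localised field extensions.
-/

set_option autoImplicit false
set_option maxHeartbeats 1000000
set_option synthInstance.maxHeartbeats 100000

universe u

open TensorProduct IsLocalRing

namespace Groth.Agent.DeltaBC

theorem deltaInv_eq_of_flat_of_isRadical (A B : Type u) [CommRing A] [IsLocalRing A] [IsReduced A] [IsNoetherianRing A]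
    [CommRing B] [IsLocalRing B] [IsNoetherianRing B] [Algebra A B] [IsLocalHom (algebraMap A B)]
    [Module.Flat A B] (hN : CAlg.IsNagata A) (hdim : ringKrullDim A = 1)
    (hm : (maximalIdeal A).map (algebraMap A B) = maximalIdeal B)
    (hjac : ((jac A).map (Algebra.TensorProduct.includeRight :
      integralClosure A (FractionRing A) →ₐ[A] B ⊗[A] integralClosure A (FractionRing A))).IsRadical) :
    Curv2.deltaInv B = Curv2.deltaInv A := by
  classical
  have := NagataOne.finite_integralClosure A hN
  set A' := integralClosure A (FractionRing A) with hA'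
  obtain ⟨d, hdreg, hd⟩ := exists_killer A
  obtain ⟨t, htreg, htgen⟩ := exists_generator A hN hdim
  -- the map to the fraction ring of `B`
  have hunit : ∀ y : nonZeroDivisors A, IsUnit (Algebra.ofId A (FractionRing B) y) := fun y => by
    show IsUnit (algebraMap A (FractionRing B) y)
    rw [IsScalarTower.algebraMap_apply A B (FractionRing B)]
    exact IsLocalization.map_units (FractionRing B)
      ⟨_, regular_left (fun x y' h => mul_cancel_left_mem_nonZeroDivisors y.2 |>.mp h)⟩
  let g₀ : FractionRing A →ₐ[A] FractionRing B := IsLocalization.liftAlgHom (f := Algebra.ofId A _) hunit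
  let g : A' →ₐ[A] FractionRing B := g₀.comp A'.val
  let φ : B ⊗[A] A' →ₐ[B] FractionRing B :=
    Algebra.TensorProduct.lift (Algebra.ofId B (FractionRing B)) g fun _ _ => Commute.all _ _
  have hφt : ∀ b : B, φ (b ⊗ₜ[A] 1) = algebraMap B (FractionRing B) b := fun b => by
    rw [show φ (b ⊗ₜ[A] 1) = Algebra.ofId B (FractionRing B) b * g 1 from
      Algebra.TensorProduct.lift_tmul _ _ _ b 1, map_one, mul_one]
    rfl
  have hd' : IsSMulRegular A' (algebraMap A A' d) := fun x y hxy => Subtype.ext
    ((IsLocalization.map_units (FractionRing A) ⟨d, mem_nonZeroDivisors_iff_left.mpr fun z hz =>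
      hdreg (hz.trans (mul_zero d).symm)⟩).mul_left_cancel (congrArg Subtype.val hxy :))
  have hdz : ∀ z : B ⊗[A] A', ∃ b : B, ((1 : B) ⊗ₜ[A] algebraMap A A' d) * z = b ⊗ₜ[A] 1 := by
    intro z
    induction z using TensorProduct.induction_on with
    | zero => exact ⟨0, by simp⟩
    | tmul b a =>
      obtain ⟨x, hx⟩ := hd a
      refine ⟨algebraMap A B x * b, ?_⟩
      rw [Algebra.TensorProduct.tmul_mul_tmul, one_mul, ← Algebra.smul_def, hx, Algebra.algebraMap_eq_smul_one,
        TensorProduct.tmul_smul, TensorProduct.smul_tmul', Algebra.smul_def]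
    | add y y' hy hy' =>
      obtain ⟨b, hb⟩ := hy
      obtain ⟨b', hb'⟩ := hy'
      exact ⟨b + b', by rw [mul_add, hb, hb', TensorProduct.add_tmul]⟩
  have hinj : Function.Injective φ := by
    refine (injective_iff_map_eq_zero φ).mpr fun z hz => regular_tensor hd' z ?_
    obtain ⟨b, hb⟩ := hdz z
    have h0 : φ (b ⊗ₜ[A] 1) = 0 := by rw [← hb, map_mul, hz, mul_zero]
    rw [hφt, map_eq_zero_iff _ (IsFractionRing.injective B (FractionRing B))] at h0
    rw [hb, h0, TensorProduct.zero_tmul]
  -- finiteness and dimension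
  have : Module.Finite B (B ⊗[A] A') := Module.Finite.base_change A B A'
  have : Algebra.IsIntegral B (B ⊗[A] A') := Algebra.IsIntegral.of_finite B _
  have : Module.FaithfullyFlat A B := Module.FaithfullyFlat.of_flat_of_isLocalHom
  have hd1 : Ring.KrullDimLE 1 (B ⊗[A] A') := krullDimLE_of_isIntegral (A := B) 1
    ((Hensel.ringKrullDim_eq_of_map_maximalIdeal hm).trans hdim).le
  let inr : A' →ₐ[A] B ⊗[A] A' := Algebra.TensorProduct.includeRight
  have : (jac A).map inr = Ideal.span {inr t} := by rw [htgen, Ideal.map_span, Set.image_singleton]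
  have hrad : (Ideal.span {inr t}).IsRadical := this ▸ hjac
  have htφ : ∀ y : FractionRing B, φ (inr t) * y = 0 → y = 0 := by
    intro y hy
    obtain ⟨⟨b, s⟩, hbs⟩ := IsLocalization.surj (nonZeroDivisors B) y
    have h0 : φ (inr t * (b ⊗ₜ[A] 1)) = 0 := by
      rw [map_mul, hφt, show algebraMap B (FractionRing B) b = y * algebraMap B _ (s : B) from hbs.symm,
        ← mul_assoc, hy, zero_mul]
    have h1 := regular_tensor htreg _ (hinj (h0.trans (map_zero φ).symm))
    have h2 : algebraMap B (FractionRing B) b = 0 := by rw [← hφt, h1, map_zero]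
    rw [h2] at hbs
    exact ((IsLocalization.map_units (FractionRing B) s).mul_left_eq_zero).mp hbs
  have hpow : ∀ s ∈ nonZeroDivisors B, ∃ N : ℕ, (s ⊗ₜ[A] (1 : A')) ∣ inr t ^ N := by
    intro s hs
    have hsreg : (s ⊗ₜ[A] (1 : A')) ∈ nonZeroDivisors (B ⊗[A] A') := by
      rw [mem_nonZeroDivisors_iff_left]
      intro x hx
      apply hinj
      have h0 : φ (s ⊗ₜ[A] 1) * φ x = 0 := by rw [← map_mul, hx, map_zero]
      rw [hφt] at h0
      rw [map_zero]
      exact ((IsLocalization.map_units (FractionRing B) ⟨s, hs⟩).mul_right_eq_zero).mp h0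
    have hmem : inr t ∈ (Ideal.span {s ⊗ₜ[A] (1 : A')}).radical := by
      rw [Ideal.radical_eq_sInf, Submodule.mem_sInf]
      intro (P : Ideal (B ⊗[A] A')) ⟨hle, hP⟩
      have hsP : (s ⊗ₜ[A] (1 : A')) ∈ P := hle (Ideal.mem_span_singleton_self _)
      rcases Ring.krullDimLE_one_iff.mp hd1 P hP with hmin | hmax
      · exact absurd hsreg (Set.disjoint_left.mp (Ideal.disjoint_nonZeroDivisors_of_mem_minimalPrimes hmin) hsP)
      · have hB : P.comap (algebraMap B (B ⊗[A] A')) = maximalIdeal B :=
          eq_maximalIdeal (Ideal.isMaximal_comap_of_isIntegral_of_isMaximal (R := B) P)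
        show t ∈ P.comap inr
        have hPA : (P.comap inr).IsPrime := Ideal.comap_isPrime _ _
        have hjle : jac A ≤ P.comap inr := by
          refine hPA.radical_le_iff.mpr (Ideal.map_le_iff_le_comap.mpr fun a ha => ?_)
          show inr (algebraMap A A' a) ∈ P
          rw [inr.commutes, IsScalarTower.algebraMap_apply A B (B ⊗[A] A')]
          exact hB.ge (hm ▸ Ideal.mem_map_of_mem _ ha)
        exact hjle (htgen ▸ Ideal.mem_span_singleton_self t)
    obtain ⟨N, hN⟩ := hmem
    exact ⟨N, Ideal.mem_span_singleton.mp hN⟩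
  have hrange : φ.range = integralClosure B (FractionRing B) := by
    refine le_antisymm ?_ ?_
    · rintro _ ⟨z, rfl⟩
      exact (Algebra.IsIntegral.isIntegral (R := B) z).map φ
    · intro x hx
      obtain ⟨⟨b, s⟩, hbs⟩ := IsLocalization.surj (nonZeroDivisors B) x
      obtain ⟨N, w, hw⟩ := hpow s s.2
      have hN : φ (inr t) ^ N * x ∈ φ.range := ⟨b ⊗ₜ[A] 1 * w, by
        show φ (b ⊗ₜ[A] 1 * w) = _
        rw [map_mul, hφt, ← map_pow φ, hw, map_mul, hφt,
          show algebraMap B (FractionRing B) b = x * algebraMap B _ (s : B) from hbs.symm]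
        ring⟩
      clear hw
      induction N with
      | zero => simpa using hN
      | succ N ih =>
        apply ih
        obtain ⟨z, hz⟩ := hN
        obtain ⟨p, hp, hpx⟩ := hx
        have hz' : φ z = φ (inr t) ^ (N + 1) * x := hz
        have hroot : φ (((p.map (algebraMap B (B ⊗[A] A'))).scaleRoots (inr t ^ (N + 1))).eval z) = 0 := by
          show (φ : B ⊗[A] A' →+* FractionRing B) _ = 0
          rw [← Polynomial.eval₂_at_apply]
          have := Polynomial.scaleRoots_eval₂_eq_zero (p := p.map (algebraMap B (B ⊗[A] A')))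
            (φ : B ⊗[A] A' →+* FractionRing B) (s := inr t ^ (N + 1)) (r := x) (by
              rw [Polynomial.eval₂_map, φ.comp_algebraMap]; exact hpx)
          rw [map_pow] at this
          rw [show (φ : B ⊗[A] A' →+* FractionRing B) z = φ z from rfl, hz']
          exact this
        have hz0 : ((p.map (algebraMap B (B ⊗[A] A'))).scaleRoots (inr t ^ (N + 1))).eval z = 0 :=
          hinj (hroot.trans (map_zero φ).symm)
        set q := (p.map (algebraMap B (B ⊗[A] A'))).scaleRoots (inr t ^ (N + 1)) with hq
        have hdvd : inr t ∣ z ^ q.natDegree := by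
          have hmon : q.Monic := (Polynomial.monic_scaleRoots_iff _).mpr (hp.map _)
          rw [Polynomial.eval_eq_sum_range, Finset.sum_range_succ, hmon.coeff_natDegree, one_mul,
            add_eq_zero_iff_eq_neg'] at hz0
          rw [hz0]
          suffices h : inr t ∣ ∑ i ∈ Finset.range q.natDegree, q.coeff i * z ^ i by
            obtain ⟨c, hc⟩ := h
            exact ⟨-c, by rw [hc]; ring⟩
          refine Finset.dvd_sum fun i hi => ?_
          rw [hq, Polynomial.coeff_scaleRoots]
          refine Dvd.dvd.mul_right (Dvd.dvd.mul_left (dvd_pow (dvd_pow_self _ (Nat.succ_ne_zero N)) ?_) _) _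
          rw [← Polynomial.natDegree_scaleRoots _ (inr t ^ (N + 1)), ← hq]
          exact Nat.sub_ne_zero_of_lt (Finset.mem_range.mp hi)
        have hmem : z ∈ Ideal.span {inr t} := hrad ⟨q.natDegree, Ideal.mem_span_singleton.mpr hdvd⟩
        obtain ⟨z', rfl⟩ := Ideal.mem_span_singleton.mp hmem
        refine ⟨z', ?_⟩
        show φ z' = φ (inr t) ^ N * x
        rw [← sub_eq_zero]
        refine htφ _ ?_
        rw [mul_sub, ← map_mul, hz', pow_succ]
        ring
  -- lengths
  let e : (B ⊗[A] A') ≃ₐ[B] integralClosure B (FractionRing B) :=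
    (AlgEquiv.ofInjective φ hinj).trans (Subalgebra.equivOfEq _ _ hrange)
  let q := (LinearMap.range (Algebra.linearMap A A')).mkQ
  have hker : LinearMap.ker (q.baseChange B) = LinearMap.range (Algebra.linearMap B (B ⊗[A] A')) := by
    ext z
    rw [LinearMap.mem_ker, LinearMap.baseChange_eq_ltensor,
      lTensor_exact B (LinearMap.exact_iff.mpr (Submodule.ker_mkQ _)) (Submodule.mkQ_surjective _) z]
    constructor
    · rintro ⟨y, rfl⟩
      induction y using TensorProduct.induction_on with
      | zero => rw [map_zero]; exact zero_mem _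
      | tmul b r =>
        refine ⟨r • b, ?_⟩
        show (r • b) ⊗ₜ[A] (1 : A') = b ⊗ₜ[A] algebraMap A A' r
        rw [TensorProduct.smul_tmul, Algebra.algebraMap_eq_smul_one]
      | add y y' hy hy' => rw [map_add]; exact add_mem hy hy'
    · rintro ⟨b, rfl⟩
      exact ⟨b ⊗ₜ[A] (1 : A), by
        show b ⊗ₜ[A] algebraMap A A' 1 = b ⊗ₜ[A] (1 : A')
        rw [map_one]⟩
  have hsurj : Function.Surjective (q.baseChange B) := by
    rw [LinearMap.baseChange_eq_ltensor]
    exact LinearMap.lTensor_surjective B (Submodule.mkQ_surjective _)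
  have hone : Module.length B (B ⧸ (maximalIdeal A).map (algebraMap A B)) = 1 := by
    rw [hm]
    have : IsSimpleModule B (B ⧸ maximalIdeal B) :=
      isSimpleModule_iff_isCoatom.mpr (maximalIdeal.isMaximal B).out
    exact Module.length_eq_one B _
  have h1 : Module.length B (B ⊗[A] (A' ⧸ LinearMap.range (Algebra.linearMap A A'))) = Curv2.deltaInv A := by
    rw [IsLocalRing.length_baseChange, hone, mul_one]
    rfl
  rw [← h1]
  show Module.length B (↥(integralClosure B (FractionRing B)) ⧸
    LinearMap.range (Algebra.linearMap B ↥(integralClosure B (FractionRing B)))) = _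
  refine (Submodule.Quotient.equiv _ _ e.toLinearEquiv ?_).symm.length_eq.trans
    (((Submodule.quotEquivOfEq _ _ hker.symm).trans
      (LinearMap.quotKerEquivOfSurjective (q.baseChange B) hsurj)).length_eq)
  rw [← LinearMap.range_comp]
  congr 1
  exact LinearMap.ext fun b => e.commutes b

section Field

set_option backward.isDefEq.respectTransparency false

variable {k A K : Type u} [CommRing k] [CommRing A] [Algebra k A] [CommRing K] [Algebra k K]
  (S : Submonoid (A ⊗[k] K)) {B : Type u} [CommRing B] [Algebra (A ⊗[k] K) B] [IsLocalization S B]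
  [Algebra A B] [IsScalarTower A (A ⊗[k] K) B]

include S in
/-- Extended ideals stay radical under localised base extensions with reduced fibres. -/
theorem isRadical_map_of_reduced_tensor {C : Type u} [CommRing C] [Algebra A C] [Algebra k C] [IsScalarTower k A C]
    (J : Ideal C) (hred : IsReduced ((C ⧸ J) ⊗[k] K)) :
    (J.map (Algebra.TensorProduct.includeRight : C →ₐ[A] B ⊗[A] C)).IsRadical := by
  let R := A ⊗[k] K
  let W := (C ⧸ J) ⊗[k] K
  let inr : C →ₐ[A] B ⊗[A] C := Algebra.TensorProduct.includeRight
  set I := J.map inr with hI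
  let σ : R →+* W := (Algebra.TensorProduct.map (IsScalarTower.toAlgHom k A (C ⧸ J)) (AlgHom.id k K)).toRingHom
  letI : Algebra R W := σ.toAlgebra
  suffices H : ∀ (W' : Type u) [CommRing W'] [Algebra W W'] [IsLocalization (Algebra.algebraMapSubmonoid W S) W'],
      I.IsRadical from H (Localization (Algebra.algebraMapSubmonoid W S))
  intro W' _ _ _
  haveI : IsReduced W' := isReduced_localizationPreserves (Algebra.algebraMapSubmonoid W S) W' hred
  have hu : ∀ y : S, IsUnit (((algebraMap W W').comp σ) y) := fun y =>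
    IsLocalization.map_units W' (⟨_, y, y.2, rfl⟩ : Algebra.algebraMapSubmonoid W S)
  let fB : B →+* W' := IsLocalization.lift (M := S) (S := B) (P := W') (g := (algebraMap W W').comp σ) hu
  let fC : C →+* W' := (algebraMap W W').comp
    ((Algebra.TensorProduct.includeLeftRingHom : C ⧸ J →+* W).comp (Ideal.Quotient.mk J))
  letI : Algebra A W' := RingHom.toAlgebra (S := W') (fB.comp (algebraMap A B))
  have hfA : ∀ a : A, fB (algebraMap A B a) = fC (algebraMap A C a) := fun a => by
    rw [IsScalarTower.algebraMap_apply A R B, IsLocalization.lift_eq]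
    show algebraMap W W' (σ (a ⊗ₜ[k] 1)) = algebraMap W W' ((Ideal.Quotient.mk J (algebraMap A C a)) ⊗ₜ[k] 1)
    rfl
  let ψ : B ⊗[A] C →ₐ[A] W' := Algebra.TensorProduct.lift
    { fB with commutes' := fun _ => rfl } { fC with commutes' := fun a => (hfA a).symm } fun _ _ => Commute.all _ _
  -- the map back
  let q : B ⊗[A] C →+* (B ⊗[A] C) ⧸ I := Ideal.Quotient.mk I
  let gJ : C ⧸ J →+* (B ⊗[A] C) ⧸ I := Ideal.Quotient.lift J (q.comp inr.toRingHom)
    fun x hx => Ideal.Quotient.eq_zero_iff_mem.mpr (Ideal.mem_map_of_mem inr hx)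
  let gB : B →+* (B ⊗[A] C) ⧸ I := q.comp (Algebra.TensorProduct.includeLeftRingHom : B →+* B ⊗[A] C)
  have hk : ∀ c : k, gJ (algebraMap k (C ⧸ J) c) = gB (algebraMap R B (algebraMap k R c)) := fun c => by
    show q (inr (algebraMap k C c)) = q ((algebraMap R B (algebraMap k R c)) ⊗ₜ[A] 1)
    rw [IsScalarTower.algebraMap_apply k A C, inr.commutes, IsScalarTower.algebraMap_apply k A R,
      ← IsScalarTower.algebraMap_apply A R B]
    rfl
  letI : Algebra k ((B ⊗[A] C) ⧸ I) := (gB.comp ((algebraMap R B).comp (algebraMap k R))).toAlgebra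
  let gW : W →ₐ[k] (B ⊗[A] C) ⧸ I := Algebra.TensorProduct.lift { gJ with commutes' := hk }
    { gB.comp ((algebraMap R B).comp (Algebra.TensorProduct.includeRight : K →ₐ[k] R).toRingHom) with
      commutes' := fun c => by
        show gB (algebraMap R B ((1 : A) ⊗ₜ[k] algebraMap k K c)) = gB (algebraMap R B (algebraMap k R c))
        rw [Algebra.TensorProduct.algebraMap_apply,
          Algebra.algebraMap_eq_smul_one c, Algebra.algebraMap_eq_smul_one c, TensorProduct.smul_tmul] }
    fun _ _ => Commute.all _ _
  have hgσ : ∀ r : R, gW (σ r) = gB (algebraMap R B r) := fun r => by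
    induction r using TensorProduct.induction_on with
    | zero => simp
    | add a b ha hb => simp only [map_add, ha, hb]
    | tmul a l =>
      rw [show σ (a ⊗ₜ[k] l) = algebraMap A (C ⧸ J) a ⊗ₜ[k] l from rfl, Algebra.TensorProduct.lift_tmul]
      show q (inr (algebraMap A C a)) * gB (algebraMap R B ((1 : A) ⊗ₜ[k] l)) = _
      rw [inr.commutes, show q (algebraMap A (B ⊗[A] C) a) = gB (algebraMap R B (a ⊗ₜ[k] (1 : K))) by
        rw [show a ⊗ₜ[k] (1 : K) = algebraMap A R a from rfl, ← IsScalarTower.algebraMap_apply A R B]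
        rfl, ← map_mul, ← map_mul, Algebra.TensorProduct.tmul_mul_tmul, mul_one, one_mul]
  have hu' : ∀ y : Algebra.algebraMapSubmonoid W S, IsUnit (gW.toRingHom y) := by
    rintro ⟨_, s, hs, rfl⟩
    show IsUnit (gW (σ s))
    rw [hgσ]
    exact (IsLocalization.map_units B (⟨s, hs⟩ : S)).map gB
  let ρ : W' →+* (B ⊗[A] C) ⧸ I := IsLocalization.lift hu'
  have hρB : ∀ b : B, ρ (fB b) = gB b := fun b => by
    refine RingHom.congr_fun (IsLocalization.ringHom_ext S (j := ρ.comp fB) (k := gB) (RingHom.ext fun r => ?_)) b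
    show ρ (fB (algebraMap R B r)) = gB (algebraMap R B r)
    rw [IsLocalization.lift_eq hu r]
    show ρ (algebraMap W W' (σ r)) = _
    rw [IsLocalization.lift_eq hu' (σ r)]
    exact hgσ r
  have key : ∀ z, ρ (ψ z) = q z := fun z => by
    induction z using TensorProduct.induction_on with
    | zero => simp
    | add a b ha hb => simp only [map_add, ha, hb]
    | tmul b c =>
      rw [Algebra.TensorProduct.lift_tmul]
      show ρ (fB b * fC c) = q (b ⊗ₜ[A] c)
      rw [map_mul, hρB]
      show gB b * ρ (algebraMap W W' ((Ideal.Quotient.mk J c) ⊗ₜ[k] 1)) = _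
      rw [IsLocalization.lift_eq hu']
      show q (b ⊗ₜ[A] 1) * gW ((Ideal.Quotient.mk J c) ⊗ₜ[k] 1) = _
      rw [Algebra.TensorProduct.lift_tmul, map_one, mul_one]
      show q (b ⊗ₜ[A] 1) * q (inr c) = _
      rw [← map_mul]
      simp [inr]
  have hker : I ≤ RingHom.ker ψ := Ideal.map_le_iff_le_comap.mpr fun x hx => by
    show ψ (1 ⊗ₜ[A] x) = 0
    rw [Algebra.TensorProduct.lift_tmul, map_one, one_mul]
    show algebraMap W W' ((Ideal.Quotient.mk J x) ⊗ₜ[k] 1) = 0
    rw [Ideal.Quotient.eq_zero_iff_mem.mpr hx, TensorProduct.zero_tmul, map_zero]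
  intro z ⟨n, hn⟩
  rw [← Ideal.Quotient.eq_zero_iff_mem]
  have hnil : ψ z ^ n = 0 := by rw [← map_pow]; exact hker hn
  rw [← key, IsReduced.eq_zero (ψ z) ⟨n, hnil⟩, map_zero]

/-- The tensor product of a finite intersection is reduced if the factors are. -/
theorem isReduced_tensor_of_jointly_injective {k : Type u} [Field k] {M K : Type u} [CommRing M] [CommRing K]
    [Algebra k M] [Algebra k K] {ι : Type*} [Finite ι] (N : ι → Type u) [∀ i, CommRing (N i)] [∀ i, Algebra k (N i)]
    (φ : ∀ i, M →ₐ[k] N i) (hφ : Function.Injective fun m i => φ i m) (h : ∀ i, IsReduced (N i ⊗[k] K)) :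
    IsReduced (M ⊗[k] K) := by
  classical
  haveI := Fintype.ofFinite ι
  let Φ : M ⊗[k] K →ₐ[k] ∀ i, N i ⊗[k] K :=
    AlgHom.pi fun i => Algebra.TensorProduct.map (φ i) (AlgHom.id k K)
  refine isReduced_of_injective Φ ?_
  let p : M →ₗ[k] ∀ i, N i := LinearMap.pi fun i => (φ i).toLinearMap
  have hΦ : ∀ z, Φ z = fun i => TensorProduct.piRight k k K N (TensorProduct.comm k _ K (p.rTensor K z)) i |>
      TensorProduct.comm k K (N i) := fun z => by
    induction z using TensorProduct.induction_on with
    | zero => funext i; simp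
    | add a b ha hb => funext i; simp [map_add, ha, hb]
    | tmul m l => funext i; simp [Φ, p]
  intro a b hab
  rw [hΦ, hΦ] at hab
  refine Module.Flat.rTensor_preserves_injective_linearMap p hφ ((TensorProduct.comm k _ K).injective
    ((TensorProduct.piRight k k K N).injective (funext fun i =>
      (TensorProduct.comm k K (N i)).injective (congrFun hab i))))

end Field

end Groth.Agent.DeltaBC
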