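import Groth.Agent.DeltaBC.Uniformizer
import Groth.Agent.DeltaBC.Tensor
import Groth.Agent.Hensel.Fibres
import Mathlib

/-!
Invariance of the δ-invariant under flat local extensions with trivial closed fibre and separable
residue extension.
-/

set_option autoImplicit false
set_option maxHeartbeats 1000000
set_option synthInstance.maxHeartbeats 100000

universe u

open TensorProduct IsLocalRing

namespace Groth.Agent.DeltaBC

theorem exists_killer (A : Type u) [CommRing A] [IsReduced A] [IsNoetherianRing A]
    [Module.Finite A (integralClosure A (FractionRing A))] :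
    ∃ d : A, IsSMulRegular A d ∧
      ∀ z : integralClosure A (FractionRing A), ∃ a : A, d • z = algebraMap A _ a := by
  classical
  obtain ⟨s, hs⟩ := (Module.Finite.fg_top (R := A) (M := integralClosure A (FractionRing A)))
  obtain ⟨⟨d, hd⟩, hds⟩ := IsLocalization.exist_integer_multiples_of_finset (nonZeroDivisors A)
    (s.image (Subtype.val : integralClosure A (FractionRing A) → FractionRing A))
  refine ⟨d, fun x y hxy => mul_cancel_left_mem_nonZeroDivisors hd |>.mp hxy, fun z => ?_⟩
  have hz : z ∈ Submodule.span A (s : Set (integralClosure A (FractionRing A))) := hs ▸ Submodule.mem_top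
  induction hz using Submodule.span_induction with
  | mem w hw =>
    obtain ⟨a, ha⟩ := hds _ (Finset.mem_image_of_mem _ hw)
    exact ⟨a, Subtype.ext ha.symm⟩
  | zero => exact ⟨0, by simp⟩
  | add a b _ _ ha hb =>
    obtain ⟨x, hx⟩ := ha
    obtain ⟨y, hy⟩ := hb
    exact ⟨x + y, by rw [smul_add, hx, hy, map_add]⟩
  | smul r a _ ha =>
    obtain ⟨x, hx⟩ := ha
    exact ⟨r * x, by rw [smul_comm, hx, map_mul, Algebra.smul_def]⟩

theorem regular_tensor {A B M : Type u} [CommRing A] [CommRing B] [Algebra A B] [Module.Flat A B]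
    [CommRing M] [Algebra A M] {t : M} (ht : IsSMulRegular M t) (z : B ⊗[A] M)
    (hz : ((1 : B) ⊗ₜ[A] t) * z = 0) : z = 0 := by
  have key : ∀ y : B ⊗[A] M, ((1 : B) ⊗ₜ[A] t) * y = (LinearMap.mulLeft A t).lTensor B y := by
    intro y
    induction y using TensorProduct.induction_on with
    | zero => simp
    | tmul b m => simp
    | add y y' hy hy' => simp [mul_add, hy, hy']
  rw [key] at hz
  exact Module.Flat.lTensor_preserves_injective_linearMap (LinearMap.mulLeft A t) (fun x y h => ht h)
    (hz.trans (map_zero _).symm)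

theorem regular_left {A B : Type u} [CommRing A] [CommRing B] [Algebra A B] [Module.Flat A B]
    {a : A} (ha : IsSMulRegular A a) : algebraMap A B a ∈ nonZeroDivisors B := by
  rw [mem_nonZeroDivisors_iff_left]
  intro x hx
  have h : x ⊗ₜ[A] (1 : A) = 0 := by
    refine regular_tensor ha _ ?_
    rw [Algebra.TensorProduct.tmul_mul_tmul, one_mul, mul_one]
    rw [show (a : A) = a • (1 : A) by rw [smul_eq_mul, mul_one], ← TensorProduct.smul_tmul, Algebra.smul_def,
      hx, TensorProduct.zero_tmul]
  simpa using congrArg (TensorProduct.rid A B) h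

theorem deltaInv_eq_of_flat (A B : Type u) [CommRing A] [IsLocalRing A] [IsReduced A] [IsNoetherianRing A]
    [CommRing B] [IsLocalRing B] [IsNoetherianRing B] [Algebra A B] [IsLocalHom (algebraMap A B)]
    [Module.Flat A B] (hN : CAlg.IsNagata A) (hdim : ringKrullDim A = 1)
    (hm : (maximalIdeal A).map (algebraMap A B) = maximalIdeal B)
    [Algebra.IsSeparable (ResidueField A) (ResidueField B)] :
    Curv2.deltaInv B = Curv2.deltaInv A := by
  classical
  have := NagataOne.finite_integralClosure A hN
  set A' := integralClosure A (FractionRing A) with hA'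
  obtain ⟨d, hdreg, hd⟩ := exists_killer A
  obtain ⟨t, htreg, htgen⟩ := exists_generator A hN hdim
  -- the map to the fraction ring of `B`
  have hunit : ∀ y : nonZeroDivisors A, IsUnit (Algebra.ofId A (FractionRing B) y) := fun y => by
    show IsUnit (algebraMap A (FractionRing B) y)
    rw [IsScalarTower.algebraMap_apply A B (FractionRing B)]
    exact IsLocalization.map_units (FractionRing B)
      ⟨_, regular_left (fun x y' h => mul_cancel_left_mem_nonZeroDivisors y.2 |>.mp h)⟩
  let g₀ : FractionRing A →ₐ[A] FractionRing B := IsLocalization.liftAlgHom (f := Algebra.ofId A _) hunit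
  let g : A' →ₐ[A] FractionRing B := g₀.comp A'.val
  let φ : B ⊗[A] A' →ₐ[B] FractionRing B :=
    Algebra.TensorProduct.lift (Algebra.ofId B (FractionRing B)) g fun _ _ => Commute.all _ _
  have hφt : ∀ b : B, φ (b ⊗ₜ[A] 1) = algebraMap B (FractionRing B) b := fun b => by
    rw [show φ (b ⊗ₜ[A] 1) = Algebra.ofId B (FractionRing B) b * g 1 from
      Algebra.TensorProduct.lift_tmul _ _ _ b 1, map_one, mul_one]
    rfl
  have hd' : IsSMulRegular A' (algebraMap A A' d) := fun x y hxy => Subtype.ext
    ((IsLocalization.map_units (FractionRing A) ⟨d, mem_nonZeroDivisors_iff_left.mpr fun z hz =>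
      hdreg (hz.trans (mul_zero d).symm)⟩).mul_left_cancel (congrArg Subtype.val hxy :))
  have hdz : ∀ z : B ⊗[A] A', ∃ b : B, ((1 : B) ⊗ₜ[A] algebraMap A A' d) * z = b ⊗ₜ[A] 1 := by
    intro z
    induction z using TensorProduct.induction_on with
    | zero => exact ⟨0, by simp⟩
    | tmul b a =>
      obtain ⟨x, hx⟩ := hd a
      refine ⟨algebraMap A B x * b, ?_⟩
      rw [Algebra.TensorProduct.tmul_mul_tmul, one_mul, ← Algebra.smul_def, hx, Algebra.algebraMap_eq_smul_one,
        TensorProduct.tmul_smul, TensorProduct.smul_tmul', Algebra.smul_def]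
    | add y y' hy hy' =>
      obtain ⟨b, hb⟩ := hy
      obtain ⟨b', hb'⟩ := hy'
      exact ⟨b + b', by rw [mul_add, hb, hb', TensorProduct.add_tmul]⟩
  have hinj : Function.Injective φ := by
    refine (injective_iff_map_eq_zero φ).mpr fun z hz => regular_tensor hd' z ?_
    obtain ⟨b, hb⟩ := hdz z
    have h0 : φ (b ⊗ₜ[A] 1) = 0 := by rw [← hb, map_mul, hz, mul_zero]
    rw [hφt, map_eq_zero_iff _ (IsFractionRing.injective B (FractionRing B))] at h0
    rw [hb, h0, TensorProduct.zero_tmul]
  -- finiteness and dimension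
  have : Module.Finite B (B ⊗[A] A') := Module.Finite.base_change A B A'
  have : Algebra.IsIntegral B (B ⊗[A] A') := Algebra.IsIntegral.of_finite B _
  have : Module.FaithfullyFlat A B := Module.FaithfullyFlat.of_flat_of_isLocalHom
  have hd1 : Ring.KrullDimLE 1 (B ⊗[A] A') := krullDimLE_of_isIntegral (A := B) 1
    ((Hensel.ringKrullDim_eq_of_map_maximalIdeal hm).trans hdim).le
  let inr : A' →ₐ[A] B ⊗[A] A' := Algebra.TensorProduct.includeRight
  have hred : IsReduced (A' ⧸ jac A) :=
    (Ideal.isRadical_iff_quotient_reduced _).mp (Ideal.radical_isRadical _)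
  have : (jac A).map inr = Ideal.span {inr t} := by rw [htgen, Ideal.map_span, Set.image_singleton]
  have hrad : (Ideal.span {inr t}).IsRadical := this ▸ isReduced_quot_baseChange hm (jac A) Ideal.le_radical
  have htφ : ∀ y : FractionRing B, φ (inr t) * y = 0 → y = 0 := by
    intro y hy
    obtain ⟨⟨b, s⟩, hbs⟩ := IsLocalization.surj (nonZeroDivisors B) y
    have h0 : φ (inr t * (b ⊗ₜ[A] 1)) = 0 := by
      rw [map_mul, hφt, show algebraMap B (FractionRing B) b = y * algebraMap B _ (s : B) from hbs.symm,
        ← mul_assoc, hy, zero_mul]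
    have h1 := regular_tensor htreg _ (hinj (h0.trans (map_zero φ).symm))
    have h2 : algebraMap B (FractionRing B) b = 0 := by rw [← hφt, h1, map_zero]
    rw [h2] at hbs
    exact ((IsLocalization.map_units (FractionRing B) s).mul_left_eq_zero).mp hbs
  have hpow : ∀ s ∈ nonZeroDivisors B, ∃ N : ℕ, (s ⊗ₜ[A] (1 : A')) ∣ inr t ^ N := by
    intro s hs
    have hsreg : (s ⊗ₜ[A] (1 : A')) ∈ nonZeroDivisors (B ⊗[A] A') := by
      rw [mem_nonZeroDivisors_iff_left]
      intro x hx
      apply hinj
      have h0 : φ (s ⊗ₜ[A] 1) * φ x = 0 := by rw [← map_mul, hx, map_zero]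
      rw [hφt] at h0
      rw [map_zero]
      exact ((IsLocalization.map_units (FractionRing B) ⟨s, hs⟩).mul_right_eq_zero).mp h0
    have hmem : inr t ∈ (Ideal.span {s ⊗ₜ[A] (1 : A')}).radical := by
      rw [Ideal.radical_eq_sInf, Submodule.mem_sInf]
      intro (P : Ideal (B ⊗[A] A')) ⟨hle, hP⟩
      have hsP : (s ⊗ₜ[A] (1 : A')) ∈ P := hle (Ideal.mem_span_singleton_self _)
      rcases Ring.krullDimLE_one_iff.mp hd1 P hP with hmin | hmax
      · exact absurd hsreg (Set.disjoint_left.mp (Ideal.disjoint_nonZeroDivisors_of_mem_minimalPrimes hmin) hsP)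
      · have hB : P.comap (algebraMap B (B ⊗[A] A')) = maximalIdeal B :=
          eq_maximalIdeal (Ideal.isMaximal_comap_of_isIntegral_of_isMaximal (R := B) P)
        show t ∈ P.comap inr
        have hPA : (P.comap inr).IsPrime := Ideal.comap_isPrime _ _
        have hjle : jac A ≤ P.comap inr := by
          refine hPA.radical_le_iff.mpr (Ideal.map_le_iff_le_comap.mpr fun a ha => ?_)
          show inr (algebraMap A A' a) ∈ P
          rw [inr.commutes, IsScalarTower.algebraMap_apply A B (B ⊗[A] A')]
          exact hB.ge (hm ▸ Ideal.mem_map_of_mem _ ha)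
        exact hjle (htgen ▸ Ideal.mem_span_singleton_self t)
    obtain ⟨N, hN⟩ := hmem
    exact ⟨N, Ideal.mem_span_singleton.mp hN⟩
  have hrange : φ.range = integralClosure B (FractionRing B) := by
    refine le_antisymm ?_ ?_
    · rintro _ ⟨z, rfl⟩
      exact (Algebra.IsIntegral.isIntegral (R := B) z).map φ
    · intro x hx
      obtain ⟨⟨b, s⟩, hbs⟩ := IsLocalization.surj (nonZeroDivisors B) x
      obtain ⟨N, w, hw⟩ := hpow s s.2
      have hN : φ (inr t) ^ N * x ∈ φ.range := ⟨b ⊗ₜ[A] 1 * w, by
        show φ (b ⊗ₜ[A] 1 * w) = _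
        rw [map_mul, hφt, ← map_pow φ, hw, map_mul, hφt,
          show algebraMap B (FractionRing B) b = x * algebraMap B _ (s : B) from hbs.symm]
        ring⟩
      clear hw
      induction N with
      | zero => simpa using hN
      | succ N ih =>
        apply ih
        obtain ⟨z, hz⟩ := hN
        obtain ⟨p, hp, hpx⟩ := hx
        have hz' : φ z = φ (inr t) ^ (N + 1) * x := hz
        have hroot : φ (((p.map (algebraMap B (B ⊗[A] A'))).scaleRoots (inr t ^ (N + 1))).eval z) = 0 := by
          show (φ : B ⊗[A] A' →+* FractionRing B) _ = 0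
          rw [← Polynomial.eval₂_at_apply]
          have := Polynomial.scaleRoots_eval₂_eq_zero (p := p.map (algebraMap B (B ⊗[A] A')))
            (φ : B ⊗[A] A' →+* FractionRing B) (s := inr t ^ (N + 1)) (r := x) (by
              rw [Polynomial.eval₂_map, φ.comp_algebraMap]; exact hpx)
          rw [map_pow] at this
          rw [show (φ : B ⊗[A] A' →+* FractionRing B) z = φ z from rfl, hz']
          exact this
        have hz0 : ((p.map (algebraMap B (B ⊗[A] A'))).scaleRoots (inr t ^ (N + 1))).eval z = 0 :=
          hinj (hroot.trans (map_zero φ).symm)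
        set q := (p.map (algebraMap B (B ⊗[A] A'))).scaleRoots (inr t ^ (N + 1)) with hq
        have hdvd : inr t ∣ z ^ q.natDegree := by
          have hmon : q.Monic := (Polynomial.monic_scaleRoots_iff _).mpr (hp.map _)
          rw [Polynomial.eval_eq_sum_range, Finset.sum_range_succ, hmon.coeff_natDegree, one_mul,
            add_eq_zero_iff_eq_neg'] at hz0
          rw [hz0]
          suffices h : inr t ∣ ∑ i ∈ Finset.range q.natDegree, q.coeff i * z ^ i by
            obtain ⟨c, hc⟩ := h
            exact ⟨-c, by rw [hc]; ring⟩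
          refine Finset.dvd_sum fun i hi => ?_
          rw [hq, Polynomial.coeff_scaleRoots]
          refine Dvd.dvd.mul_right (Dvd.dvd.mul_left (dvd_pow (dvd_pow_self _ (Nat.succ_ne_zero N)) ?_) _) _
          rw [← Polynomial.natDegree_scaleRoots _ (inr t ^ (N + 1)), ← hq]
          exact Nat.sub_ne_zero_of_lt (Finset.mem_range.mp hi)
        have hmem : z ∈ Ideal.span {inr t} := hrad ⟨q.natDegree, Ideal.mem_span_singleton.mpr hdvd⟩
        obtain ⟨z', rfl⟩ := Ideal.mem_span_singleton.mp hmem
        refine ⟨z', ?_⟩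
        show φ z' = φ (inr t) ^ N * x
        rw [← sub_eq_zero]
        refine htφ _ ?_
        rw [mul_sub, ← map_mul, hz', pow_succ]
        ring
  -- lengths
  let e : (B ⊗[A] A') ≃ₐ[B] integralClosure B (FractionRing B) :=
    (AlgEquiv.ofInjective φ hinj).trans (Subalgebra.equivOfEq _ _ hrange)
  let q := (LinearMap.range (Algebra.linearMap A A')).mkQ
  have hker : LinearMap.ker (q.baseChange B) = LinearMap.range (Algebra.linearMap B (B ⊗[A] A')) := by
    ext z
    rw [LinearMap.mem_ker, LinearMap.baseChange_eq_ltensor,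
      lTensor_exact B (LinearMap.exact_iff.mpr (Submodule.ker_mkQ _)) (Submodule.mkQ_surjective _) z]
    constructor
    · rintro ⟨y, rfl⟩
      induction y using TensorProduct.induction_on with
      | zero => rw [map_zero]; exact zero_mem _
      | tmul b r =>
        refine ⟨r • b, ?_⟩
        show (r • b) ⊗ₜ[A] (1 : A') = b ⊗ₜ[A] algebraMap A A' r
        rw [TensorProduct.smul_tmul, Algebra.algebraMap_eq_smul_one]
      | add y y' hy hy' => rw [map_add]; exact add_mem hy hy'
    · rintro ⟨b, rfl⟩
      exact ⟨b ⊗ₜ[A] (1 : A), by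
        show b ⊗ₜ[A] algebraMap A A' 1 = b ⊗ₜ[A] (1 : A')
        rw [map_one]⟩
  have hsurj : Function.Surjective (q.baseChange B) := by
    rw [LinearMap.baseChange_eq_ltensor]
    exact LinearMap.lTensor_surjective B (Submodule.mkQ_surjective _)
  have hone : Module.length B (B ⧸ (maximalIdeal A).map (algebraMap A B)) = 1 := by
    rw [hm]
    have : IsSimpleModule B (B ⧸ maximalIdeal B) :=
      isSimpleModule_iff_isCoatom.mpr (maximalIdeal.isMaximal B).out
    exact Module.length_eq_one B _
  have h1 : Module.length B (B ⊗[A] (A' ⧸ LinearMap.range (Algebra.linearMap A A'))) = Curv2.deltaInv A := by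
    rw [IsLocalRing.length_baseChange, hone, mul_one]
    rfl
  rw [← h1]
  show Module.length B (↥(integralClosure B (FractionRing B)) ⧸
    LinearMap.range (Algebra.linearMap B ↥(integralClosure B (FractionRing B)))) = _
  refine (Submodule.Quotient.equiv _ _ e.toLinearEquiv ?_).symm.length_eq.trans
    (((Submodule.quotEquivOfEq _ _ hker.symm).trans
      (LinearMap.quotKerEquivOfSurjective (q.baseChange B) hsurj)).length_eq)
  rw [← LinearMap.range_comp]
  congr 1
  exact LinearMap.ext fun b => e.commutes b

end Groth.Agent.DeltaBC
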