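import Groth.Agent.DeltaBC.GeomSep
import Groth.Agent.S1651
import Mathlib

/-!
The δ-invariant of a base change to a field extension, for normalisations with geometrically reduced residue fields.
-/

set_option autoImplicit false
set_option maxHeartbeats 1000000
set_option synthInstance.maxHeartbeats 100000
set_option backward.isDefEq.respectTransparency false
set_option linter.style.haveILetI false

universe u

open TensorProduct IsLocalRing

namespace Groth.Agent.DeltaBC

theorem deltaInv_congr {A B : Type u} [CommRing A] [IsLocalRing A] [CommRing B] [IsLocalRing B] (e : A ≃+* B) :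
    Curv2.deltaInv A = Curv2.deltaInv B := by
  apply le_antisymm
  · letI : Algebra A B := e.toRingHom.toAlgebra
    haveI : IsLocalHom (algebraMap A B) := ⟨fun a ha => (MulEquiv.isUnit_map e.toMulEquiv).mp ha⟩
    haveI : Module.Flat A B := RingHom.flat_algebraMap_iff.mp (RingHom.Flat.of_bijective e.bijective)
    exact Groth.Agent.S1651.deltaInv_le A B
  · letI : Algebra B A := e.symm.toRingHom.toAlgebra
    haveI : IsLocalHom (algebraMap B A) := ⟨fun a ha => (MulEquiv.isUnit_map e.symm.toMulEquiv).mp ha⟩
    haveI : Module.Flat B A := RingHom.flat_algebraMap_iff.mp (RingHom.Flat.of_bijective e.symm.bijective)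
    exact Groth.Agent.S1651.deltaInv_le B A

theorem deltaInv_eq_localization_tensor (k : Type u) [Field k] (A : Type u) [CommRing A] [IsLocalRing A] [IsDomain A]
    [IsNoetherianRing A] [Algebra k A] (K : Type u) [Field K] [Algebra k K] (hN : CAlg.IsNagata A)
    (hdim : ringKrullDim A = 1) (P : Ideal (A ⊗[k] K)) [P.IsPrime]
    (hP : P.comap (algebraMap A (A ⊗[k] K)) = maximalIdeal A) [IsNoetherianRing (Localization.AtPrime P)]
    (hdB : ringKrullDim (Localization.AtPrime P) = 1)
    (hred : ∀ Q : Ideal (integralClosure A (FractionRing A)), Q.IsMaximal →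
      IsReduced ((↥(integralClosure A (FractionRing A)) ⧸ Q) ⊗[k] K)) :
    Curv2.deltaInv (Localization.AtPrime P) = Curv2.deltaInv A := by
  classical
  let R := A ⊗[k] K
  let B := Localization.AtPrime P
  let A' := integralClosure A (FractionRing A)
  haveI : Module.Finite A A' := NagataOne.finite_integralClosure A hN
  haveI : IsLocalHom (algebraMap A B) := ⟨fun a ha => by
    by_contra hna
    have ha' : algebraMap A R a ∈ P := by
      have : a ∈ maximalIdeal A := hna
      rw [← hP] at this
      exact this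
    rw [IsScalarTower.algebraMap_apply A R B, IsLocalization.AtPrime.isUnit_to_map_iff B P] at ha
    exact ha ha'⟩
  haveI : Module.Flat R B := IsLocalization.flat B P.primeCompl
  haveI : Module.Flat A B := Module.Flat.trans A R B
  obtain ⟨Q, hQ⟩ := Ideal.exists_maximal A'
  have hQA : Q.comap (algebraMap A A') = maximalIdeal A :=
    eq_maximalIdeal (Ideal.isMaximal_comap_of_isIntegral_of_isMaximal (R := A) Q)
  have hκ : IsReduced ((A ⧸ maximalIdeal A) ⊗[k] K) := by
    let φ : (A ⧸ maximalIdeal A) →ₐ[k] A' ⧸ Q :=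
      Ideal.quotientMapₐ Q (IsScalarTower.toAlgHom k A A') hQA.ge
    have hφ : Function.Injective φ := Ideal.quotientMap_injective' (H := hQA.ge) hQA.le
    exact isReduced_tensor_of_jointly_injective (ι := PUnit.{1}) (fun _ => A' ⧸ Q) (fun _ => φ)
      (fun a b h => hφ (congrFun h PUnit.unit)) fun _ => hred Q hQ
  have hrad : ((maximalIdeal A).map (algebraMap A B)).IsRadical := by
    have h := isRadical_map_of_reduced_tensor (B := B) P.primeCompl (C := A) (maximalIdeal A) hκ
    let e := (Algebra.TensorProduct.rid A A B).toRingEquiv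
    have he : (maximalIdeal A).map (algebraMap A B) = Ideal.map (e : B ⊗[A] A →+* B)
        ((maximalIdeal A).map (Algebra.TensorProduct.includeRight : A →ₐ[A] B ⊗[A] A)) := by
      rw [← Ideal.map_coe (Algebra.TensorProduct.includeRight : A →ₐ[A] B ⊗[A] A), Ideal.map_map]
      congr 1
      ext a
      show algebraMap A B a = e ((1 : B) ⊗ₜ[A] a)
      rw [show e ((1 : B) ⊗ₜ[A] a) = a • (1 : B) from Algebra.TensorProduct.rid_tmul ..,
        Algebra.algebraMap_eq_smul_one]
    rw [he, Ideal.map_comap_of_equiv]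
    exact h.comap _
  -- a nonzero element of the maximal ideal
  obtain ⟨c, hcm, hc0⟩ : ∃ c ∈ maximalIdeal A, c ≠ 0 := Submodule.exists_mem_ne_zero_of_ne_bot fun h0 => by
    have := ringKrullDim_eq_zero_of_isField (isField_iff_maximalIdeal_eq.mpr h0)
    rw [hdim] at this
    exact one_ne_zero this
  have hcB : algebraMap A B c ∈ nonZeroDivisors B := regular_left fun x y hxy => mul_left_cancel₀ hc0 hxy
  haveI : Ring.KrullDimLE 1 B := Ring.krullDimLE_iff.mpr hdB.le
  have hm : (maximalIdeal A).map (algebraMap A B) = maximalIdeal B := by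
    refine le_antisymm (((local_hom_TFAE _).out 0 2).mp ‹_›) ?_
    rw [← hrad.radical, Ideal.radical_eq_sInf]
    refine le_sInf fun J ⟨hle, hJ⟩ => ?_
    rcases Ring.krullDimLE_one_iff.mp ‹Ring.KrullDimLE 1 B› J hJ with hmin | hmax
    · exact absurd hcB (Set.disjoint_left.mp (Ideal.disjoint_nonZeroDivisors_of_mem_minimalPrimes hmin)
        (hle (Ideal.mem_map_of_mem _ hcm)))
    · exact (eq_maximalIdeal hmax).ge
  refine deltaInv_eq_of_flat_of_isRadical A B hN hdim hm ?_
  refine isRadical_map_of_reduced_tensor (B := B) P.primeCompl (jac A) ?_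
  haveI : IsReduced (A' ⧸ jac A) := (Ideal.isRadical_iff_quotient_reduced _).mp (Ideal.radical_isRadical _)
  let : Algebra (ResidueField A) (A' ⧸ jac A) :=
    RingHom.toAlgebra (S := A' ⧸ jac A)
      (Ideal.Quotient.lift (maximalIdeal A) ((Ideal.Quotient.mk (jac A)).comp (algebraMap A A'))
        fun a ha => Ideal.Quotient.eq_zero_iff_mem.mpr (Ideal.le_radical (Ideal.mem_map_of_mem _ ha)))
  haveI : IsScalarTower A (ResidueField A) (A' ⧸ jac A) := IsScalarTower.of_algebraMap_eq fun _ => rfl
  haveI : Module.Finite A (A' ⧸ jac A) :=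
    Module.Finite.of_surjective (Ideal.Quotient.mkₐ A (jac A)).toLinearMap Ideal.Quotient.mk_surjective
  haveI : Module.Finite (ResidueField A) (A' ⧸ jac A) := Module.Finite.of_restrictScalars_finite A _ _
  haveI : IsArtinianRing (A' ⧸ jac A) := IsArtinianRing.of_finite (ResidueField A) _
  let N : MaximalSpectrum (A' ⧸ jac A) → Ideal A' := fun m => m.asIdeal.comap (Ideal.Quotient.mk (jac A))
  have hle : ∀ m, jac A ≤ N m := fun m x hx => by
    show Ideal.Quotient.mk (jac A) x ∈ m.asIdeal
    rw [Ideal.Quotient.eq_zero_iff_mem.mpr hx]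
    exact zero_mem _
  refine isReduced_tensor_of_jointly_injective (k := k) (M := A' ⧸ jac A) (K := K) (fun m => A' ⧸ N m) (fun m => { toRingHom := Ideal.Quotient.factor (hle m), commutes' := fun _ => rfl })
    ?_ fun m => hred _ (Ideal.comap_isMaximal_of_surjective _ Ideal.Quotient.mk_surjective)
  intro x y hxy
  obtain ⟨a, rfl⟩ := Ideal.Quotient.mk_surjective x
  obtain ⟨b, rfl⟩ := Ideal.Quotient.mk_surjective y
  rw [← sub_eq_zero, ← map_sub]
  refine IsReduced.eq_zero _ ((mem_nilradical (R := A' ⧸ jac A)).mp ?_)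
  rw [nilradical_eq_sInf, Submodule.mem_sInf]
  intro (m : Ideal (A' ⧸ jac A)) (hm' : m.IsPrime)
  haveI := hm'
  haveI : m.IsMaximal := IsArtinianRing.isMaximal_of_isPrime (R := A' ⧸ jac A) m
  have hmem : a - b ∈ N ⟨m, inferInstance⟩ := Ideal.Quotient.eq.mp (congrFun hxy ⟨m, inferInstance⟩)
  exact hmem

end Groth.Agent.DeltaBC
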