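import Groth.Agent.DeltaBC.GeomSepAlg
import Groth.Agent.GeomProp.BCStalk
import Groth.Agent.GeomProp.NormalColim
import Groth.Agent.NormCoker.Basic
import Groth.Agent.CycDim.PushSheaf
import Groth.Agent.ZeroSch.Over
import Mathlib

/-!
The δ-invariant under base field extension when the residue fields of the normalisation are geometrically reduced.
-/

set_option autoImplicit false
set_option maxHeartbeats 1000000
set_option backward.isDefEq.respectTransparency false
set_option linter.style.haveILetI false

universe u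

open CategoryTheory CategoryTheory.Limits AlgebraicGeometry TopologicalSpace Opposite
open scoped TensorProduct

noncomputable section

namespace Groth.Agent.DeltaBC

attribute [local instance] Curv2.stalkAlgebra

variable (k : Type u) [Field k]

theorem isReduced_tensor_of_geometricallyReduced {L : Type u} [CommRing L] [Algebra k L]
    (h : GeometricallyReduced (Spec.map (CommRingCat.ofHom (algebraMap k L)))) (K : Type u) [Field K] [Algebra k K] :
    _root_.IsReduced (L ⊗[k] K) := by
  haveI : AlgebraicGeometry.IsReduced (pullback (Spec.map (CommRingCat.ofHom (algebraMap k L)))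
      (Spec.map (CommRingCat.ofHom (algebraMap k K)))) := pullback_of_geometrically h.1 K _
  haveI : AlgebraicGeometry.IsReduced (Spec (CommRingCat.of (L ⊗[k] K))) :=
    isReduced_of_isOpenImmersion (pullbackSpecIso k L K).inv
  exact isReduced_of_injective _
    (Scheme.ΓSpecIso (CommRingCat.of (L ⊗[k] K))).commRingCatIsoToRingEquiv.symm.injective

variable (X : Scheme.{u}) [X.Over (Spec (CommRingCat.of k))] [IsIntegral X]
  [LocallyOfFiniteType (X ↘ (Spec (CommRingCat.of k)))]
  [QuasiCompact (X.fromSpecStalk (genericPoint X))] [QuasiSeparated (X.fromSpecStalk (genericPoint X))]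

include k in
omit [IsIntegral X] [QuasiCompact (X.fromSpecStalk (genericPoint X))] [QuasiSeparated (X.fromSpecStalk (genericPoint X))] in
theorem isNagata_stalk (x : X) : CAlg.IsNagata (X.presheaf.stalk x) := by
  obtain ⟨U, hU, hxU, -⟩ := exists_isAffineOpen_mem_and_subset (x := x) (U := (⊤ : X.Opens)) trivial
  letI : Algebra k Γ(X, U) := (ZeroSch.cst k U).toAlgebra
  haveI : Algebra.FiniteType k Γ(X, U) := RingHom.finiteType_algebraMap.1 (ZeroSch.finiteType_cst hU)
  letI := TopCat.Presheaf.algebra_section_stalk X.presheaf (⟨x, hxU⟩ : U)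
  haveI := hU.isLocalization_stalk ⟨x, hxU⟩
  exact Nagata.isNagata_of_isLocalization (Nagata.isNagata_of_finiteType (R := k) (GeomProp.isN2_quotient_field k))
    (hU.primeIdealOf ⟨x, hxU⟩).asIdeal.primeCompl (X.presheaf.stalk x)

theorem isReduced_closure_tensor (K : Type u) [Field K] [Algebra k K] (x : X)
    (hsep : letI : (Curv2.normalization X).Over (Spec (CommRingCat.of k)) :=
        ⟨Curv2.normalizationι X ≫ (X ↘ (Spec (CommRingCat.of k)))⟩
      ∀ x' : ↥(Curv2.normalization X), (Curv2.normalizationι X).base x' = x →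
        GeometricallyReduced (Spec.map (CommRingCat.ofHom (Curv2.resMap k (Curv2.normalization X) x'))))
    (Q : Ideal (integralClosure (X.presheaf.stalk x) (FractionRing (X.presheaf.stalk x)))) (hQ : Q.IsMaximal) :
    _root_.IsReduced ((↥(integralClosure (X.presheaf.stalk x) (FractionRing (X.presheaf.stalk x))) ⧸ Q) ⊗[k] K) := by
  classical
  letI overN : (Curv2.normalization X).Over (Spec (CommRingCat.of k)) :=
    ⟨Curv2.normalizationι X ≫ (X ↘ (Spec (CommRingCat.of k)))⟩
  let ν := Curv2.normalizationι X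
  obtain ⟨U, hU, hxU, -⟩ := exists_isAffineOpen_mem_and_subset (x := x) (U := (⊤ : X.Opens)) trivial
  haveI : Nonempty U := ⟨⟨x, hxU⟩⟩
  let A : Type u := X.presheaf.stalk x
  let A₀ : Type u := Γ(X, U)
  let F : Type u := X.functionField
  letI : Algebra Γ(X, U) Γ(Curv2.normalization X, ν ⁻¹ᵁ U) := (ν.app U).hom.toAlgebra
  letI := TopCat.Presheaf.algebra_section_stalk X.presheaf (⟨x, hxU⟩ : U)
  haveI := hU.isLocalization_stalk ⟨x, hxU⟩
  haveI := functionField_isFractionRing_of_isAffineOpen X U hU
  haveI : IsScalarTower Γ(X, U) (X.presheaf.stalk x) X.functionField := functionField_isScalarTower X U ⟨x, hxU⟩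
  let p := hU.primeIdealOf ⟨x, hxU⟩
  obtain ⟨e⟩ := NormCoker.exists_algEquiv X hU
  let eF : integralClosure A (FractionRing A) ≃ₐ[A] integralClosure A F :=
    (FractionRing.algEquiv A F).mapIntegralClosure
  let C₀ := integralClosure A₀ F
  let C := integralClosure A F
  let Qc : Ideal C := Q.comap (eF.symm : C →+* integralClosure A (FractionRing A))
  haveI hQc : Qc.IsMaximal := Ideal.comap_isMaximal_of_surjective _ eF.symm.surjective
  have hQcA : Qc.comap (algebraMap A C) = IsLocalRing.maximalIdeal A :=
    IsLocalRing.eq_maximalIdeal (Ideal.isMaximal_comap_of_isIntegral_of_isMaximal (R := A) Qc)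
  let ι : C₀ →+* C :=
    { toFun := fun z => ⟨z.1, z.2.tower_top⟩
      map_one' := rfl
      map_mul' := fun _ _ => rfl
      map_zero' := rfl
      map_add' := fun _ _ => rfl }
  letI : Algebra C₀ C := ι.toAlgebra
  haveI : IsScalarTower C₀ C F := IsScalarTower.of_algebraMap_eq fun _ => rfl
  haveI : IsScalarTower A₀ C₀ C := IsScalarTower.of_algebraMap_eq fun a =>
    Subtype.ext rfl
  haveI : IsLocalization (Algebra.algebraMapSubmonoid F p.asIdeal.primeCompl) F :=
    IsLocalization.self fun a ha => by
      obtain ⟨s, hs, rfl⟩ := ha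
      rw [IsUnit.mem_submonoid_iff, IsScalarTower.algebraMap_apply A₀ A F]
      exact (IsLocalization.map_units A (⟨s, hs⟩ : p.asIdeal.primeCompl)).map _
  haveI : IsLocalization (Algebra.algebraMapSubmonoid C₀ p.asIdeal.primeCompl) C :=
    IsLocalization.integralClosure (S := F) (Rf := A) (Sf := F) p.asIdeal.primeCompl
  let q₀ : Ideal C₀ := Qc.comap ι
  haveI : q₀.IsPrime := Ideal.comap_isPrime _ _
  have hq₀A : q₀.comap (algebraMap A₀ C₀) = p.asIdeal := by
    ext a
    show algebraMap C₀ C (algebraMap A₀ C₀ a) ∈ Qc ↔ _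
    rw [← IsScalarTower.algebraMap_apply A₀ C₀ C, IsScalarTower.algebraMap_apply A₀ A C, ← Ideal.mem_comap, hQcA]
    exact IsLocalization.AtPrime.to_map_mem_maximal_iff A p.asIdeal a
  let V := ν ⁻¹ᵁ U
  haveI : IsAffineHom ν := inferInstanceAs (IsAffineHom (X.fromSpecStalk (genericPoint X)).fromNormalization)
  have hV : IsAffineOpen V := hU.preimage ν
  let qV : PrimeSpectrum Γ(Curv2.normalization X, V) :=
    ⟨q₀.comap (e.symm : Γ(Curv2.normalization X, V) →+* C₀), inferInstance⟩
  let z := hV.fromSpec qV
  have hz : z ∈ V := hV.range_fromSpec.le ⟨qV, rfl⟩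
  have hpz : hV.primeIdealOf ⟨z, hz⟩ = qV := hV.fromSpec.isOpenEmbedding.injective (hV.fromSpec_primeIdealOf _)
  have hνz : ν z = x := by
    show ν (hV.fromSpec qV) = x
    rw [CycSheafPush.fromSpec_comap ν hU hV qV]
    refine Eq.trans (congrArg hU.fromSpec (PrimeSpectrum.ext ?_)) (hU.fromSpec_primeIdealOf ⟨x, hxU⟩)
    refine Eq.trans ?_ hq₀A
    ext a
    show e.symm ((ν.app U).hom a) ∈ q₀ ↔ algebraMap A₀ C₀ a ∈ q₀
    rw [← e.symm.commutes a]
    rfl
  letI : Algebra k ((Curv2.normalization X).residueField z) :=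
    (Curv2.resMap k (Curv2.normalization X) z).toAlgebra
  let φ : C₀ →+* (Curv2.normalization X).residueField z :=
    (HurwitzAlg.evalRes (U := V) hz).comp (e : C₀ →+* Γ(Curv2.normalization X, V))
  have hkerφ : RingHom.ker φ = q₀ := by
    ext w
    show e w ∈ RingHom.ker (HurwitzAlg.evalRes (U := V) hz) ↔ _
    rw [HurwitzAlg.ker_evalRes hV hz, HurwitzAlg.pr, hpz]
    show e.symm (e w) ∈ q₀ ↔ _
    rw [AlgEquiv.symm_apply_apply]
  have hu : ∀ y : Algebra.algebraMapSubmonoid C₀ p.asIdeal.primeCompl, IsUnit (φ y) := by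
    rintro ⟨_, s, hs, rfl⟩
    refine isUnit_iff_ne_zero.2 fun h0 => hs ?_
    rw [← RingHom.mem_ker, hkerφ, ← Ideal.mem_comap, hq₀A] at h0
    exact h0
  let ev : C →+* (Curv2.normalization X).residueField z := IsLocalization.lift hu
  have hevQ : RingHom.ker ev = Qc := by
    ext w
    obtain ⟨b, s, rfl⟩ := IsLocalization.exists_mk'_eq (Algebra.algebraMapSubmonoid C₀ p.asIdeal.primeCompl) w
    rw [RingHom.mem_ker, IsLocalization.lift_mk', Units.mul_left_eq_zero, ← RingHom.mem_ker, hkerφ, Ideal.mem_comap,
      show ι b = IsLocalization.mk' C b s * algebraMap C₀ C s from (IsLocalization.mk'_spec C b s).symm,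
      Ideal.mul_unit_mem_iff_mem Qc (IsLocalization.map_units C s)]
  let eF' : integralClosure A (FractionRing A) →+* C := eF.toRingEquiv.toRingHom
  have hker : RingHom.ker (ev.comp eF') = Q := by
    rw [← RingHom.comap_ker, hevQ]
    ext w
    show eF.symm (eF w) ∈ Q ↔ _
    rw [AlgEquiv.symm_apply_apply]
  have hk : ∀ c : k, ev (eF' (algebraMap k (integralClosure A (FractionRing A)) c)) =
      Curv2.resMap k (Curv2.normalization X) z c := fun c => by
    have h1 : eF' (algebraMap k (integralClosure A (FractionRing A)) c) =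
        algebraMap C₀ C (algebraMap A₀ C₀ (ZeroSch.cst k U c)) := by
      rw [IsScalarTower.algebraMap_apply k A (integralClosure A (FractionRing A)), ← IsScalarTower.algebraMap_apply A₀ C₀ C,
        IsScalarTower.algebraMap_apply A₀ A C]
      refine (eF.commutes _).trans (congrArg (algebraMap A C) ?_)
      exact (X.presheaf.germ_res_apply (homOfLE (le_top : U ≤ ⊤)) x hxU _).symm
    rw [h1, IsLocalization.lift_eq]
    show HurwitzAlg.evalRes (U := V) hz (e (algebraMap A₀ C₀ (ZeroSch.cst k U c))) = _
    rw [e.commutes]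
    refine congrArg ((Curv2.normalization X).residue z).hom ?_
    show (Curv2.normalization X).presheaf.germ V z hz ((ν.app U).hom (ZeroSch.cst k U c)) =
      (Curv2.normalization X).presheaf.germ ⊤ z trivial (Coh.toGlobal (ν ≫ (X ↘ Spec (CommRingCat.of k))) c)
    rw [← (Curv2.normalization X).presheaf.germ_res_apply (homOfLE (le_top : V ≤ ⊤)) z hz]
    refine congrArg ((Curv2.normalization X).presheaf.germ V z hz).hom ?_
    exact congrArg (fun m => m.hom (Coh.toGlobal (X ↘ Spec (CommRingCat.of k)) c))
      (ν.naturality (homOfLE (le_top : U ≤ ⊤)).op)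
  let M : Type u := ↥(integralClosure A (FractionRing A)) ⧸ Q
  let ω : M →ₐ[k] (Curv2.normalization X).residueField z :=
    { toRingHom := Ideal.Quotient.lift Q (ev.comp eF') fun w hw => by
        rw [← RingHom.mem_ker, hker]; exact hw
      commutes' := fun c => hk c }
  have hω : Function.Injective ω := (injective_iff_map_eq_zero ω).2 fun w hw => by
    obtain ⟨w, rfl⟩ := Ideal.Quotient.mk_surjective w
    rw [Ideal.Quotient.eq_zero_iff_mem, ← hker]
    exact hw
  exact isReduced_tensor_of_jointly_injective (ι := PUnit.{1}) (fun _ => (Curv2.normalization X).residueField z)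
    (fun _ => ω) (fun a b h => hω (congrFun h PUnit.unit))
    fun _ => isReduced_tensor_of_geometricallyReduced k (hsep z hνz) K

theorem deltaInv_bc (K : Type u) [Field K] [Algebra k K] (y : ↥(Curv2.bc k X K))
    (hdx : ringKrullDim (X.presheaf.stalk ((Curv2.bcFst k X K).base y)) = 1)
    (hsep : letI : (Curv2.normalization X).Over (Spec (CommRingCat.of k)) :=
        ⟨Curv2.normalizationι X ≫ (X ↘ (Spec (CommRingCat.of k)))⟩
      ∀ x' : ↥(Curv2.normalization X), (Curv2.normalizationι X).base x' = (Curv2.bcFst k X K).base y →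
        GeometricallyReduced (Spec.map (CommRingCat.ofHom (Curv2.resMap k (Curv2.normalization X) x'))))
    (hdy : ringKrullDim ((Curv2.bc k X K).presheaf.stalk y) = 1) :
    Curv2.deltaInv (X.presheaf.stalk ((Curv2.bcFst k X K).base y)) =
      Curv2.deltaInv ((Curv2.bc k X K).presheaf.stalk y) := by
  haveI : IsLocallyNoetherian X := LocallyOfFiniteType.isLocallyNoetherian (X ↘ (Spec (CommRingCat.of k)))
  haveI : LocallyOfFiniteType (pullback.snd (X ↘ Spec (CommRingCat.of k))
      (Spec.map (CommRingCat.ofHom (algebraMap k K)))) :=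
    MorphismProperty.pullback_snd (P := @LocallyOfFiniteType) _ _ inferInstance
  haveI : IsLocallyNoetherian (Curv2.bc k X K) := LocallyOfFiniteType.isLocallyNoetherian
    (pullback.snd (X ↘ Spec (CommRingCat.of k)) (Spec.map (CommRingCat.ofHom (algebraMap k K))))
  obtain ⟨P, hP, hPm, ⟨g⟩⟩ := (GeomProp.bc_stalks k X K ((Curv2.bcFst k X K).base y)).1 y rfl
  haveI := hP
  haveI : IsNoetherianRing (Localization.AtPrime P) := isNoetherianRing_of_ringEquiv _ g.symm
  rw [← deltaInv_congr g, deltaInv_eq_localization_tensor k _ K (isNagata_stalk k X _) hdx P hPm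
    ((ringKrullDim_eq_of_ringEquiv g).trans hdy) fun Q hQ => isReduced_closure_tensor k X K _ hsep Q hQ]

end Groth.Agent.DeltaBC
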