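import Groth.Agent.NagataOne.Dim
import Groth.Agent.SerreReg.MiracleFinite
import Mathlib

/-!
The normalisation of a reduced one-dimensional Nagata local ring has an element generating the
radical of the extended maximal ideal.
-/

set_option autoImplicit false
set_option maxHeartbeats 800000
set_option synthInstance.maxHeartbeats 100000

universe u

open IsLocalRing

namespace Groth.Agent.DeltaBC

theorem krullDimLE_of_isIntegral {A C : Type u} [CommRing A] [CommRing C] [Algebra A C] [Algebra.IsIntegral A C]
    (n : ℕ) (h : ringKrullDim A ≤ n) : Ring.KrullDimLE n C := by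
  rw [Ring.krullDimLE_iff]
  exact (Order.krullDim_le_of_strictMono (PrimeSpectrum.comap (algebraMap A C))
    fun P Q hPQ => Ideal.IsIntegral.comap_lt_comap hPQ).trans h

section Closure

variable (A : Type u) [CommRing A] [IsLocalRing A]

/-- The radical of the extended maximal ideal in the normalisation. -/
noncomputable abbrev jac : Ideal (integralClosure A (FractionRing A)) :=
  ((maximalIdeal A).map (algebraMap A (integralClosure A (FractionRing A)))).radical

variable [IsReduced A] [IsNoetherianRing A]

theorem isMaximal_of_jac_le (P : Ideal (integralClosure A (FractionRing A))) [P.IsPrime]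
    (h : jac A ≤ P) : P.IsMaximal := by
  refine Ideal.isMaximal_of_isIntegral_of_isMaximal_comap (R := A) P ?_
  have h1 : maximalIdeal A ≤ P.comap (algebraMap A (integralClosure A (FractionRing A))) :=
    Ideal.map_le_iff_le_comap.mp (Ideal.le_radical.trans h)
  rw [← (maximalIdeal.isMaximal A).eq_of_le (Ideal.comap_ne_top _ (Ideal.IsPrime.ne_top ‹_›)) h1]
  exact maximalIdeal.isMaximal A

theorem jac_le_of_isMaximal (P : Ideal (integralClosure A (FractionRing A))) [P.IsMaximal] :
    jac A ≤ P := by
  refine (Ideal.IsMaximal.isPrime ‹_›).radical_le_iff.mpr (Ideal.map_le_iff_le_comap.mpr ?_)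
  rw [eq_maximalIdeal (Ideal.isMaximal_comap_of_isIntegral_of_isMaximal (R := A) P)]

theorem exists_generator (hN : CAlg.IsNagata A) (hdim : ringKrullDim A = 1) :
    ∃ t : integralClosure A (FractionRing A),
      IsSMulRegular (integralClosure A (FractionRing A)) t ∧ jac A = Ideal.span {t} := by
  classical
  have := NagataOne.finite_integralClosure A hN
  set A' := integralClosure A (FractionRing A)
  have hnoeth : IsNoetherianRing A' := IsNoetherianRing.of_finite A A'
  -- a regular element in the maximal ideal
  obtain ⟨c, hcm, hc⟩ : ∃ c ∈ maximalIdeal A, c ∈ nonZeroDivisors A := by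
    by_contra hno
    push Not at hno
    have hfin : (minimalPrimes A).Finite := minimalPrimes.finite_of_isNoetherianRing A
    have hsub : (maximalIdeal A : Set A) ⊆ ⋃ p ∈ hfin.toFinset, ((id p : Ideal A) : Set A) := fun x hx => by
      by_contra h
      simp only [Set.mem_iUnion, Set.Finite.mem_toFinset, not_exists, id, SetLike.mem_coe] at h
      have : Finite (NagataOne.Min A) := NagataOne.finite_min A
      exact hno x hx ((NagataOne.mem_nonZeroDivisors_iff_forall_notMem A).mpr fun p => h p.1 p.2)
    obtain ⟨p, hp, hle⟩ := (Ideal.subset_union_prime ⊥ ⊥ fun p hp _ _ =>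
      ((Set.Finite.mem_toFinset hfin).mp hp).1.1).mp hsub
    have hpm := (Set.Finite.mem_toFinset hfin).mp hp
    have heq : maximalIdeal A = p := (maximalIdeal.isMaximal A).eq_of_le hpm.1.1.ne_top hle
    have h0 : ringKrullDim A = 0 := by
      rw [← maximalIdeal_height_eq_ringKrullDim, heq]
      have := hpm.1.1
      rw [Ideal.height_eq_zero_iff.mpr hpm]
      rfl
    rw [hdim] at h0
    exact one_ne_zero h0
  have hcreg : IsSMulRegular A' (algebraMap A A' c) := by
    intro x y hxy
    apply Subtype.ext
    have h1 : algebraMap A (FractionRing A) c * x.1 = algebraMap A (FractionRing A) c * y.1 :=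
      congrArg Subtype.val hxy
    exact (IsLocalization.map_units (FractionRing A) ⟨c, hc⟩).mul_left_cancel h1
  -- local rings at maximal ideals are discrete valuation rings
  have hdvr : ∀ n : MaximalSpectrum A', ∃ π : A', π ∈ n.asIdeal ∧
      ∀ x : A', algebraMap A' (Localization.AtPrime n.asIdeal) x ∈
        maximalIdeal (Localization.AtPrime n.asIdeal) →
        algebraMap A' (Localization.AtPrime n.asIdeal) x ∈
          Ideal.span {algebraMap A' (Localization.AtPrime n.asIdeal) π} := by
    intro n
    let L := Localization.AtPrime n.asIdeal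
    obtain ⟨hdom, hic⟩ := NagataOne.isNormal_localization A ⟨n.asIdeal, inferInstance⟩
    have : IsDomain L := hdom
    have : IsIntegrallyClosed L := hic
    have : IsNoetherianRing L := IsLocalization.isNoetherianRing n.asIdeal.primeCompl L hnoeth
    have hc0 : algebraMap A' L (algebraMap A A' c) ∈ maximalIdeal L := by
      rw [← Localization.AtPrime.map_eq_maximalIdeal]
      exact Ideal.mem_map_of_mem _ (jac_le_of_isMaximal A n.asIdeal
        (Ideal.le_radical (Ideal.mem_map_of_mem _ hcm)))
    have hc1 : algebraMap A' L (algebraMap A A' c) ≠ 0 := fun h0 => by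
      obtain ⟨⟨s, hs⟩, hs'⟩ := (IsLocalization.map_eq_zero_iff n.asIdeal.primeCompl L _).mp h0
      have : algebraMap A A' c * s = algebraMap A A' c * 0 := by rw [mul_zero, mul_comm]; exact hs'
      exact hs ((hcreg this).symm ▸ n.asIdeal.zero_mem)
    have hnf : ¬ IsField L := fun hF =>
      hc1 ((Submodule.mem_bot L).mp ((isField_iff_maximalIdeal_eq.mp hF) ▸ hc0))
    have hd1 : Ring.KrullDimLE 1 A' := krullDimLE_of_isIntegral (A := A) 1 hdim.le
    have : Ring.KrullDimLE 1 L := by
      rw [Ring.krullDimLE_iff, IsLocalization.AtPrime.ringKrullDim_eq_height n.asIdeal L]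
      exact (Ideal.height_le_ringKrullDim_of_ne_top n.isMaximal.ne_top).trans (Ring.krullDimLE_iff.mp hd1)
    have : IsDedekindDomain L := (isDedekindDomain_iff L (FractionRing L)).mpr ⟨hdom, inferInstance,
      ⟨fun {p} hp hpp => hpp.isMaximal_of_ne_bot hp⟩, (isIntegrallyClosed_iff _).mp hic⟩
    have : IsDiscreteValuationRing L := ((IsDiscreteValuationRing.TFAE L hnf).out 0 2).mpr this
    obtain ⟨ϖ, hϖ⟩ := IsDiscreteValuationRing.exists_irreducible L
    obtain ⟨⟨π, s⟩, hπ⟩ := IsLocalization.surj n.asIdeal.primeCompl ϖ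
    have hmax := hϖ.maximalIdeal_eq
    refine ⟨π, ?_, fun x hx => ?_⟩
    · rw [← IsLocalization.AtPrime.to_map_mem_maximal_iff L n.asIdeal π]
      change algebraMap A' L π ∈ maximalIdeal L
      rw [← hπ, hmax]
      exact Ideal.mem_span_singleton.mpr (dvd_mul_right _ _)
    · rw [← hπ]
      have hu : IsUnit (algebraMap A' L (s : A')) := IsLocalization.map_units L s
      rw [Ideal.span_singleton_mul_right_unit hu, ← hmax]
      exact hx
  choose π hπmem hπgen using hdvr
  -- finitely many maximal ideals
  have : Finite (MaximalSpectrum A') := by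
    have hmin : ((maximalIdeal A).map (algebraMap A A')).minimalPrimes.Finite :=
      Ideal.finite_minimalPrimes_of_isNoetherianRing A' _
    have hinj : Function.Injective fun n : MaximalSpectrum A' => n.asIdeal := fun a b h => MaximalSpectrum.ext h
    refine Set.finite_univ_iff.mp ((hmin.preimage hinj.injOn).subset fun n _ => ?_)
    have hle : (maximalIdeal A).map (algebraMap A A') ≤ n.asIdeal :=
      Ideal.le_radical.trans (jac_le_of_isMaximal A n.asIdeal)
    refine ⟨⟨inferInstance, hle⟩, fun P ⟨hP, hPle⟩ hle' => ?_⟩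
    have := isMaximal_of_jac_le A P (hP.radical_le_iff.mpr hPle)
    exact (this.eq_of_le n.isMaximal.ne_top hle').ge
  let N : MaximalSpectrum A' → Ideal A' := fun n => n.asIdeal ^ 2
  have hpair : Pairwise fun i j => IsCoprime (N i) (N j) := fun i j hij =>
    (Ideal.isCoprime_iff_sup_eq.mpr (i.isMaximal.coprime_of_ne j.isMaximal
      fun h => hij (MaximalSpectrum.ext h))).pow
  obtain ⟨t, ht⟩ := Ideal.pi_quotient_surjective hpair fun n => Ideal.Quotient.mk (N n) (π n)
  have htn : ∀ n : MaximalSpectrum A', t - π n ∈ n.asIdeal ^ 2 := fun n =>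
    Ideal.Quotient.eq.mp (ht n)
  -- the image of `t` is a uniformiser everywhere
  have hgen : ∀ n : MaximalSpectrum A', maximalIdeal (Localization.AtPrime n.asIdeal) ≤
      Ideal.span {algebraMap A' (Localization.AtPrime n.asIdeal) t} := by
    intro n
    let L := Localization.AtPrime n.asIdeal
    have hm : maximalIdeal L = n.asIdeal.map (algebraMap A' L) := Localization.AtPrime.map_eq_maximalIdeal.symm
    have hmπ : maximalIdeal L = Ideal.span {algebraMap A' L (π n)} := by
      refine le_antisymm ?_ ((Ideal.span_singleton_le_iff_mem _).mpr (hm ▸ Ideal.mem_map_of_mem _ (hπmem n)))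
      nth_rw 1 [hm]
      rw [Ideal.map_le_iff_le_comap]
      intro x hx
      exact hπgen n x (hm ▸ Ideal.mem_map_of_mem _ hx)
    have h2 : algebraMap A' L (π n - t) ∈ maximalIdeal L ^ 2 := by
      rw [hm, ← Ideal.map_pow]
      exact Ideal.mem_map_of_mem _ (neg_sub t (π n) ▸ (n.asIdeal ^ 2).neg_mem (htn n))
    have : IsNoetherianRing L := IsLocalization.isNoetherianRing n.asIdeal.primeCompl L hnoeth
    have hfg : (maximalIdeal L).FG := Ideal.fg_of_isNoetherianRing _
    refine Submodule.le_of_le_smul_of_le_jacobson_bot (R := L) (M := L) (I := maximalIdeal L) hfg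
      (IsLocalRing.maximalIdeal_le_jacobson (R := L) _) ?_
    nth_rw 1 [hmπ]
    rw [Ideal.span_le, Set.singleton_subset_iff, SetLike.mem_coe,
      show π n = t + (π n - t) by ring, RingHom.map_add]
    refine Submodule.add_mem_sup (Ideal.mem_span_singleton_self _) ?_
    rw [smul_eq_mul, ← pow_two]
    exact h2
  have hreg : IsSMulRegular A' t := by
    intro a b hab
    have hx : t * (a - b) = 0 := by rw [mul_sub, sub_eq_zero]; exact hab
    rw [← sub_eq_zero]
    generalize a - b = x at hx ⊢
    refine eq_zero_of_localization x fun m hm => ?_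
    let L := Localization.AtPrime m
    obtain ⟨hdom, -⟩ := NagataOne.isNormal_localization A ⟨m, hm.isPrime⟩
    have : IsDomain L := hdom
    have h1 : algebraMap A' L t * algebraMap A' L x = 0 := by
      rw [← RingHom.map_mul (algebraMap A' L), hx, map_zero]
    refine (mul_eq_zero.mp h1).resolve_left fun h0 => ?_
    have hle := hgen ⟨m, hm⟩
    rw [h0, Ideal.span_singleton_eq_bot.mpr rfl, le_bot_iff] at hle
    have hcm' : algebraMap A' L (algebraMap A A' c) ∈ maximalIdeal L := by
      rw [← Localization.AtPrime.map_eq_maximalIdeal]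
      exact Ideal.mem_map_of_mem _ (jac_le_of_isMaximal A m (Ideal.le_radical (Ideal.mem_map_of_mem _ hcm)))
    rw [hle, Submodule.mem_bot] at hcm'
    obtain ⟨⟨s, hs⟩, hs'⟩ := (IsLocalization.map_eq_zero_iff m.primeCompl L _).mp hcm'
    have : algebraMap A A' c * s = algebraMap A A' c * 0 := by rw [mul_zero, mul_comm]; exact hs'
    exact hs ((hcreg this).symm ▸ m.zero_mem)
  refine ⟨t, hreg, le_antisymm (fun x hx => ?_) ((Ideal.span_singleton_le_iff_mem _).mpr ?_)⟩
  · refine Ideal.mem_of_localization_maximal fun m hm => ?_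
    rw [Ideal.map_span, Set.image_singleton]
    refine hgen ⟨m, hm⟩ ?_
    rw [← Localization.AtPrime.map_eq_maximalIdeal]
    exact Ideal.mem_map_of_mem _ (jac_le_of_isMaximal A m hx)
  · show t ∈ jac A
    rw [jac, Ideal.radical_eq_sInf, Submodule.mem_sInf]
    rintro P ⟨hle, hP⟩
    have hmax := isMaximal_of_jac_le A P (hP.radical_le_iff.mpr hle)
    have := htn ⟨P, hmax⟩
    simpa using P.add_mem (Ideal.pow_le_self two_ne_zero this) (hπmem ⟨P, hmax⟩)

end Closure

end Groth.Agent.DeltaBC
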